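import Groth.Agent.LinRed34.Integral
import Mathlib.RingTheory.Bialgebra.Quotient
import Mathlib.RingTheory.HopfAlgebra.Quotient

/-!
Functionals supported on a closed subgroup scheme; two-sided integrals.
-/

universe u v w

open TensorProduct HopfRep

noncomputable section

namespace Groth.Agent.PsRefl34

open Groth.Agent.Comod33 Groth.Agent.LinRed34

variable {k : Type u} [Field k] {H : Type v} [CommRing H] [HopfAlgebra k H]

/-- `f` is supported on the closed subscheme of `I`. -/
def Supp (I : Ideal H) (f : H →ₗ[k] k) : Prop := ∀ a ∈ I, f a = 0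

theorem supp_bot (f : H →ₗ[k] k) : Supp (⊥ : Ideal H) f := fun a ha => by
  rw [Ideal.mem_bot.1 ha, map_zero]

theorem Supp.mulRight {I : Ideal H} {f : H →ₗ[k] k} (hf : Supp I f) (c : H) :
    Supp I (f ∘ₗ LinearMap.mulLeft k c) := fun a ha => hf _ (I.mul_mem_left c ha)

/-- An element killed by all functionals supported on `I` lies in `I`. -/
theorem mem_of_forall_supp {I : Ideal H} {a : H} (h : ∀ f : H →ₗ[k] k, Supp I f → f a = 0) : a ∈ I := by
  rw [← Ideal.Quotient.eq_zero_iff_mem]
  refine (Module.forall_dual_apply_eq_zero_iff k _).1 fun φ => ?_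
  exact h (φ ∘ₗ (Ideal.Quotient.mkₐ k I).toLinearMap) fun b hb => by
    simp [Ideal.Quotient.eq_zero_iff_mem.2 hb]

/-- Splitting of a supported functional on a product. -/
theorem exists_decomp {I : Ideal H} [Module.Finite k H] {g : H →ₗ[k] k} (hg : Supp I g) :
    ∃ (n : ℕ) (φ ψ : Fin n → (H →ₗ[k] k)), (∀ i, Supp I (φ i)) ∧ (∀ i, Supp I (ψ i)) ∧
      ∀ b c : H, g (b * c) = ∑ i, φ i b * ψ i c := by
  have : Module.Finite k (H ⧸ I) :=
    Module.Finite.of_surjective (Ideal.Quotient.mkₐ k I).toLinearMap Ideal.Quotient.mk_surjective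
  let B := Module.finBasis k (H ⧸ I)
  choose e he using fun i => Ideal.Quotient.mk_surjective (B i)
  refine ⟨_, fun i => B.coord i ∘ₗ (Ideal.Quotient.mkₐ k I).toLinearMap, fun i => g ∘ₗ LinearMap.mulLeft k (e i),
    fun i a ha => by simp [Ideal.Quotient.eq_zero_iff_mem.2 ha], fun i => hg.mulRight _, fun b c => ?_⟩
  have hb : b - ∑ i, B.coord i (Ideal.Quotient.mk I b) • e i ∈ I := by
    rw [← Ideal.Quotient.eq_zero_iff_mem, ← Ideal.Quotient.mkₐ_eq_mk k, map_sub, map_sum]
    simp only [map_smul, Ideal.Quotient.mkₐ_eq_mk, he, Module.Basis.coord_apply, B.sum_repr, sub_self]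
  have h0 := hg _ (I.mul_mem_right c hb)
  rw [sub_mul, map_sub, sub_eq_zero, Finset.sum_mul, map_sum] at h0
  rw [h0]
  refine Finset.sum_congr rfl fun i _ => ?_
  simp [smul_mul_assoc]

/-- The coaction on a product in terms of slices. -/
theorem dact_mul_of_decomp {R : Type w} [CommRing R] [Algebra k R] [Comod k H R] [GLin.IsCoactAlg k H R]
    {n : ℕ} {φ ψ : Fin n → (H →ₗ[k] k)} {g : H →ₗ[k] k} (h : ∀ b c : H, g (b * c) = ∑ i, φ i b * ψ i c) (u v : R) :
    dact g (u * v) = ∑ i, dact (φ i) u * dact (ψ i) v := by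
  simp only [dact_apply, GLin.IsCoactAlg.coact_mul]
  generalize Comod.coact (k := k) (A := H) u = p
  generalize Comod.coact (k := k) (A := H) v = q
  induction p with
  | zero => simp
  | add a b ha hb => simp only [map_add, add_mul, Finset.sum_add_distrib, ha, hb]
  | tmul r b =>
    induction q with
    | zero => simp
    | add a c ha hb => simp only [map_add, mul_add, Finset.sum_add_distrib, ha, hb]
    | tmul r' c =>
      simp only [Algebra.TensorProduct.tmul_mul_tmul, rc_tmul, h, Finset.sum_smul, smul_mul_assoc,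
        mul_smul_comm, smul_smul, mul_comm]

theorem dact_one_eq {R : Type w} [CommRing R] [Algebra k R] [Comod k H R] [GLin.IsCoactAlg k H R]
    (g : H →ₗ[k] k) : dact g (1 : R) = g 1 • (1 : R) := by
  rw [dact_apply, GLin.IsCoactAlg.coact_one (k := k), Algebra.TensorProduct.one_def, rc_tmul]

theorem counit_dact' (g : H →ₗ[k] k) (a : H) :
    Coalgebra.counit (R := k) (dact g a) = g a := by
  show Coalgebra.counit (R := k) (rc g (CoalgebraStruct.comul (R := k) a)) = g a
  have h2 := congrArg (fun z => g (TensorProduct.lid k H z)) (Coalgebra.rTensor_counit_comul (R := k) a)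
  simp only [TensorProduct.lid_tmul, one_smul] at h2
  rw [← h2]
  generalize CoalgebraStruct.comul (R := k) a = z
  induction z with
  | zero => simp
  | add p q hp hq => simp only [map_add, hp, hq]
  | tmul p q => simp [mul_comm]

/-- A linearly reductive group has a two-sided normalised integral. -/
theorem exists_twoSided (hG : IsLinearlyReductive k H) :
    ∃ l : H →ₗ[k] k, l 1 = 1 ∧
      (∀ f, (WithConv.toConv f * WithConv.toConv l).ofConv = f 1 • l) ∧
      (∀ f, (WithConv.toConv l * WithConv.toConv f).ofConv = f 1 • l) := by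
  let l : H →ₗ[k] k := CoalgebraStruct.counit ∘ₗ rey k H H hG
  have hfix : ∀ a, rey k H H hG a = l a • (1 : H) := fun a => fixedPts_regular (rey_mem hG a)
  have hl1 : l 1 = 1 := by
    have h1 : (1 : H) ∈ fixedPts k H H := by
      show CoalgebraStruct.comul (R := k) (1 : H) = (1 : H) ⊗ₜ[k] (1 : H)
      rw [Bialgebra.comul_one, Algebra.TensorProduct.one_def]
    simp [l, rey_of_fixed hG h1]
  -- the Reynolds projection is the action of `l`
  have hrey : ∀ a, rey k H H hG a = dact l a := by
    intro a
    refine sub_eq_zero.1 ((Module.forall_dual_apply_eq_zero_iff k _).1 fun φ => ?_)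
    let T : H →ₗ[k] H := (TensorProduct.lid k H).toLinearMap ∘ₗ φ.rTensor H ∘ₗ Comod.coact (k := k) (A := H) (V := H)
    have hT : ∀ (f : H →ₗ[k] k) v, T (dact f v) = dact f (T v) := by
      intro f v
      simp only [T, LinearMap.comp_apply, LinearEquiv.coe_coe]
      rw [coact_dact]
      show _ = rc f (CoalgebraStruct.comul (R := k) (TensorProduct.lid k H (φ.rTensor H _)))
      generalize Comod.coact (k := k) (A := H) v = t
      induction t with
      | zero => simp
      | add p q hp hq => simp only [map_add, hp, hq]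
      | tmul p q => simp
    have hcounit : ∀ v, Coalgebra.counit (R := k) (T v) = φ v := by
      intro v
      simp only [T, LinearMap.comp_apply, LinearEquiv.coe_coe]
      conv_rhs => rw [← dact_counit (k := k) (A := H) (V := H) v, dact_apply]
      generalize Comod.coact (k := k) (A := H) v = t
      induction t with
      | zero => simp
      | add p q hp hq => simp only [map_add, hp, hq]
      | tmul p q => simp [mul_comm]
    have hTl : ∀ v, l (T v) = φ (dact l v) := by
      intro v
      simp only [T, LinearMap.comp_apply, LinearEquiv.coe_coe, dact_apply]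
      generalize Comod.coact (k := k) (A := H) v = t
      induction t with
      | zero => simp
      | add p q hp hq => simp only [map_add, hp, hq]
      | tmul p q => simp [mul_comm]
    have h1 : T (rey k H H hG a) = rey k H H hG (T a) := map_rey hG ((isComodHom_iff _).2 hT) a
    rw [map_sub, sub_eq_zero, ← hTl, ← hcounit, h1, hfix, map_smul, Bialgebra.counit_one, smul_eq_mul, mul_one]
  refine ⟨l, hl1, fun f => LinearMap.ext fun a => ?_, fun f => LinearMap.ext fun a => ?_⟩
  · have h : dact f (dact l a) = f 1 • dact l a := by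
      rw [← hrey]; exact (mem_fixedPts_iff _).1 (rey_mem hG a) f
    have h2 := congrArg (Coalgebra.counit (R := k)) h
    rw [dact_dact, counit_dact', map_smul, counit_dact'] at h2
    simpa using h2
  · have h : dact l (dact f a) = f 1 • dact l a := by
      rw [← hrey, ← hrey, ← (mem_fixedPts_iff _).1 (rey_mem hG a) f]
      exact map_smul (((fixedΛ k H H).subtype ∘ₗ Submodule.projectionOnto _ _ (isCompl_compl hG)) :
        H →ₗ[WithConv (H →ₗ[k] k)] H) (WithConv.toConv f) a
    have h2 := congrArg (Coalgebra.counit (R := k)) h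
    rw [dact_dact, counit_dact', map_smul, counit_dact'] at h2
    simpa using h2

/-- The integral of a closed subgroup scheme, as a functional on the whole group. -/
theorem exists_subgroup_integral (I : Ideal H) [I.IsHopfIdeal k] (hI : IsLinearlyReductive k (H ⧸ I)) :
    ∃ l : H →ₗ[k] k, l 1 = 1 ∧ Supp I l ∧
      (∀ f, Supp I f → (WithConv.toConv f * WithConv.toConv l).ofConv = f 1 • l) ∧
      (∀ f, Supp I f → (WithConv.toConv l * WithConv.toConv f).ofConv = f 1 • l) := by
  obtain ⟨l, hl1, hl, hr⟩ := exists_twoSided hI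
  let π := Bialgebra.Quotient.mkBialgHom (R := k) I
  have hlift : ∀ f : H →ₗ[k] k, Supp I f → ∃ f' : H ⧸ I →ₗ[k] k, f = f' ∘ₗ π.toCoalgHom.toLinearMap := fun f hf =>
    ⟨(I.restrictScalars k).liftQ f hf, LinearMap.ext fun a => rfl⟩
  have hmul : ∀ f' g' : H ⧸ I →ₗ[k] k,
      (WithConv.toConv (f' ∘ₗ π.toCoalgHom.toLinearMap) * WithConv.toConv (g' ∘ₗ π.toCoalgHom.toLinearMap)).ofConv =
        (WithConv.toConv f' * WithConv.toConv g').ofConv ∘ₗ π.toCoalgHom.toLinearMap := fun f' g' => by
    rw [LinearMap.convMul_comp_coalgHom_distrib]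
  refine ⟨l ∘ₗ π.toCoalgHom.toLinearMap, ?_, fun a ha => ?_, fun f hf => ?_, fun f hf => ?_⟩
  · show l (Ideal.Quotient.mk I 1) = 1
    rwa [map_one]
  · show l (Ideal.Quotient.mk I a) = 0
    rw [Ideal.Quotient.eq_zero_iff_mem.2 ha, map_zero]
  · obtain ⟨f', rfl⟩ := hlift f hf
    rw [hmul, hl]
    rfl
  · obtain ⟨f', rfl⟩ := hlift f hf
    rw [hmul, hr]
    rfl

end Groth.Agent.PsRefl34
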