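import Groth.Agent.PsRefl34.Linear
import Mathlib.LinearAlgebra.Dimension.Constructions
import Mathlib.RingTheory.Ideal.Quotient.Operations

/-!
Generation of a graded subalgebra of invariants by a homogeneous basis of its cotangent space at the origin.
-/

universe u

open TensorProduct HopfRep MvPolynomial

noncomputable section

namespace Groth.Agent.PsRefl34

variable {k : Type u} [Field k] {ι : Type u}

local notation "P" => MvPolynomial ι k

theorem comp_mul_mem {d : ℕ} (A : Subalgebra k P) {p q : P} (hp : homogeneousComponent 0 p = 0)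
    (hq : homogeneousComponent 0 q = 0)
    (h : ∀ e < d, homogeneousComponent e p ∈ A ∧ homogeneousComponent e q ∈ A) :
    homogeneousComponent d (p * q) ∈ A := by
  conv => arg 2; rw [← sum_homogeneousComponent p, ← sum_homogeneousComponent q, Finset.sum_mul_sum]
  rw [map_sum]
  refine sum_mem fun a _ => ?_
  rw [map_sum]
  refine sum_mem fun b _ => ?_
  rw [homogeneousComponent_of_mem ((homogeneousComponent_isHomogeneous a p).mul (homogeneousComponent_isHomogeneous b q))]
  split_ifs with he
  · rcases Nat.eq_zero_or_pos a with rfl | ha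
    · rw [hp, zero_mul]; exact zero_mem _
    rcases Nat.eq_zero_or_pos b with rfl | hb
    · rw [hq, mul_zero]; exact zero_mem _
    exact mul_mem (h a (by omega)).1 (h b (by omega)).2
  · exact zero_mem _

/-- A subalgebra closed under homogeneous components whose ideal at the origin is generated, near the
origin, by `n` elements is generated by at most `n` homogeneous elements. -/
theorem exists_generators (A : Subalgebra k P) (hA : ∀ v ∈ A, ∀ d, homogeneousComponent d v ∈ A)
    (y : Ideal A) (hy : ∀ v : A, v ∈ y ↔ homogeneousComponent 0 (v : P) = 0) (n : ℕ) (a : Fin n → A)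
    (ha : ∀ v ∈ y, ∃ s : A, s ∉ y ∧ s * v ∈ Ideal.span (Set.range a)) (hamem : ∀ i, a i ∈ y) :
    ∃ (r : ℕ) (f : Fin r → A), r ≤ n ∧ Function.Surjective (aeval (R := k) f) := by
  classical
  let q : A →ₗ[k] A ⧸ y ^ 2 := (Ideal.Quotient.mkₐ k (y ^ 2)).toLinearMap
  -- constants
  have hcst : ∀ v : A, ∃ c : k, v - algebraMap k A c ∈ y := fun v => by
    refine ⟨coeff 0 (v : P), (hy _).2 ?_⟩
    rw [homogeneousComponent_zero]
    simp
  have hspan : ∀ v ∈ y, q v ∈ Submodule.span k (Set.range (q ∘ a)) := by
    intro v hv
    obtain ⟨s, hs, hsv⟩ := ha v hv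
    obtain ⟨c, hc⟩ := hcst s
    have hc0 : c ≠ 0 := fun h => hs (by simpa [h] using hc)
    obtain ⟨w, hw⟩ := (Ideal.mem_span_range_iff_exists_fun).1 hsv
    choose d hd using fun i => hcst (w i)
    have h1 : c • q v = ∑ i, d i • q (a i) := by
      simp only [← map_smul, ← map_sum]
      refine Ideal.Quotient.eq.2 ?_
      have e : c • v - ∑ i, d i • a i = -((s - algebraMap k A c) * v) + ∑ i, (w i - algebraMap k A (d i)) * a i := by
        simp only [Algebra.smul_def, sub_mul, Finset.sum_sub_distrib, hw]
        ring
      rw [e, pow_two]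
      exact add_mem (neg_mem (Ideal.mul_mem_mul hc hv)) (sum_mem fun i _ => Ideal.mul_mem_mul (hd i) (hamem i))
    rw [← inv_smul_smul₀ hc0 (q v), h1]
    exact Submodule.smul_mem _ _ (sum_mem fun i _ => Submodule.smul_mem _ _ (Submodule.subset_span ⟨i, rfl⟩))
  let L : Submodule k (A ⧸ y ^ 2) := (y.restrictScalars k).map q
  have hL : L ≤ Submodule.span k (Set.range (q ∘ a)) := by
    rintro _ ⟨v, hv, rfl⟩
    exact hspan v hv
  -- homogeneous spanning set
  let T : Set (A ⧸ y ^ 2) := {z | ∃ (v : A) (d : ℕ), 0 < d ∧ (v : P).IsHomogeneous d ∧ q v = z}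
  have hTL : Submodule.span k T = L := by
    refine le_antisymm (Submodule.span_le.2 ?_) ?_
    · rintro _ ⟨v, d, hd, hv, rfl⟩
      exact ⟨v, (hy v).2 (by rw [homogeneousComponent_of_mem hv, if_neg (by omega)]), rfl⟩
    · rintro _ ⟨v, hv, rfl⟩
      have e : v = ∑ d ∈ Finset.range ((v : P).totalDegree + 1), (⟨_, hA v v.2 d⟩ : A) :=
        Subtype.ext (by rw [AddSubmonoidClass.coe_finsetSum]; exact (sum_homogeneousComponent (v : P)).symm)
      rw [e, map_sum]
      refine sum_mem fun d _ => ?_
      rcases Nat.eq_zero_or_pos d with rfl | hd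
      · rw [show (⟨_, hA v v.2 0⟩ : A) = 0 from Subtype.ext ((hy v).1 hv), map_zero]
        exact zero_mem _
      · exact Submodule.subset_span ⟨⟨_, hA v v.2 d⟩, d, hd, homogeneousComponent_isHomogeneous d _, rfl⟩
  obtain ⟨b, hbT, hbspan, hbli⟩ := exists_linearIndependent k T
  have hfin : FiniteDimensional k (Submodule.span k (Set.range (q ∘ a))) :=
    FiniteDimensional.span_of_finite k (Set.finite_range _)
  have : FiniteDimensional k L := Submodule.finiteDimensional_of_le hL
  have hbL : ∀ z : b, (z : A ⧸ y ^ 2) ∈ L := fun z => hTL ▸ hbspan ▸ Submodule.subset_span z.2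
  have hli : LinearIndependent k (fun z : b => (⟨z, hbL z⟩ : L)) := LinearIndependent.of_comp L.subtype hbli
  have : Finite b := hli.finite
  have hcard : Nat.card b ≤ n := by
    have := Fintype.ofFinite b
    rw [Nat.card_eq_fintype_card]
    refine hli.fintype_card_le_finrank.trans ((Submodule.finrank_mono hL).trans ?_)
    exact (finrank_range_le_card _).trans (by simp)
  let e := Finite.equivFin b
  choose f deg hdeg hhom hq using fun i : Fin (Nat.card b) => hbT (e.symm i).2
  refine ⟨Nat.card b, f, hcard, ?_⟩
  set B := (aeval (R := k) f).range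
  have hf : ∀ i, f i ∈ B := fun i => ⟨X i, aeval_X _ _⟩
  let B' : Subalgebra k P := B.map A.val
  suffices ∀ d, ∀ v : A, homogeneousComponent d (v : P) ∈ B' by
    intro v
    have h : (v : P) ∈ B' := by
      rw [← sum_homogeneousComponent (v : P)]
      exact sum_mem fun d _ => this d v
    obtain ⟨w, hw, hwv⟩ := h
    obtain rfl : w = v := Subtype.ext hwv
    exact hw
  intro d
  induction d using Nat.strong_induction_on with
  | _ d ih =>
    intro v
    rcases Nat.eq_zero_or_pos d with rfl | hd
    · rw [homogeneousComponent_zero]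
      exact B'.algebraMap_mem _
    let w : A := ⟨_, hA v v.2 d⟩
    have hw : q w ∈ Submodule.span k (Set.range fun i => q (f i)) := by
      have h1 : q w ∈ Submodule.span k b := hbspan ▸ Submodule.subset_span
        ⟨w, d, hd, homogeneousComponent_isHomogeneous d _, rfl⟩
      refine Submodule.span_mono ?_ h1
      intro z hz
      exact ⟨e ⟨z, hz⟩, (hq _).trans (by rw [Equiv.symm_apply_apply])⟩
    obtain ⟨c, hc⟩ := (Submodule.mem_span_range_iff_exists_fun k).1 hw
    have h2 : w - ∑ i, c i • f i ∈ y ^ 2 := Ideal.Quotient.eq.1 (by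
      show q w = q _
      rw [← hc, map_sum]; simp [map_smul])
    have h3 : ∀ z ∈ y ^ 2, homogeneousComponent d ((z : A) : P) ∈ B' := by
      intro z hz
      rw [pow_two] at hz
      refine Submodule.mul_induction_on hz (fun p hp r hr => ?_) (fun p r hp hr => ?_)
      · rw [Subalgebra.coe_mul]
        exact comp_mul_mem B' ((hy p).1 hp) ((hy r).1 hr) fun e he => ⟨ih e he p, ih e he r⟩
      · rw [Subalgebra.coe_add, map_add]
        exact add_mem hp hr
    have h4 := h3 _ h2
    rw [Subalgebra.coe_sub, map_sub, AddSubmonoidClass.coe_finsetSum, map_sum,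
      show homogeneousComponent d ((w : A) : P) = homogeneousComponent d (v : P) from
        homogeneousComponent_eq_self (homogeneousComponent_isHomogeneous d _)] at h4
    have h5 : ∑ i, homogeneousComponent d ((c i • f i : A) : P) ∈ B' := sum_mem fun i _ => by
      rw [Subalgebra.coe_smul, map_smul, homogeneousComponent_of_mem (hhom i)]
      refine Subalgebra.smul_mem _ ?_ _
      split_ifs
      · exact ⟨f i, hf i, rfl⟩
      · exact zero_mem _
    simpa using add_mem h4 h5

end Groth.Agent.PsRefl34
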