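import Groth.Agent.PsRefl34.Principal
import Mathlib.RingTheory.MvPolynomial.Homogeneous
import Mathlib.RingTheory.MvPolynomial.Ideal

/-!
Linear coactions on polynomial rings: homogeneous components and the cotangent space at the origin.
-/

universe u

open TensorProduct HopfRep MvPolynomial

noncomputable section

namespace Groth.Agent.PsRefl34

open Groth.Agent.Comod33

variable {k : Type u} [Field k] {H : Type u} [CommRing H] [HopfAlgebra k H] [Module.Finite k H]
variable {ι : Type u} [Fintype ι] [Comod k H (MvPolynomial ι k)] [GLin.IsCoactAlg k H (MvPolynomial ι k)]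

local notation "P" => MvPolynomial ι k

omit [Fintype ι] [Comod k H P] [GLin.IsCoactAlg k H P] [Module.Finite k H] in
theorem comp_mul_of_homog {l : P} (hl : l ∈ homogeneousSubmodule ι k 1) (p : P) (d : ℕ) :
    homogeneousComponent d (p * l) = if d = 0 then 0 else homogeneousComponent (d - 1) p * l := by
  conv_lhs => rw [← sum_homogeneousComponent p, Finset.sum_mul, map_sum]
  have h : ∀ i, homogeneousComponent d (homogeneousComponent i p * l) =
      if d = i + 1 then homogeneousComponent i p * l else 0 := fun i =>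
    homogeneousComponent_of_mem ((homogeneousComponent_isHomogeneous i p).mul hl)
  simp only [h]
  split_ifs with hd
  · subst hd; simp
  · obtain ⟨e, rfl⟩ : ∃ e, d = e + 1 := ⟨d - 1, by omega⟩
    simp only [add_left_inj, Finset.sum_ite_eq, Nat.add_sub_cancel]
    split_ifs with he
    · rfl
    · rw [homogeneousComponent_eq_zero _ _ (by simp at he; omega), zero_mul]

omit [Module.Finite k H] in
theorem dact_X_mem (hlin : GLin.IsLinear k H ι) (g : H →ₗ[k] k) (i : ι) :
    dact g (X i : P) ∈ homogeneousSubmodule ι k 1 := by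
  obtain ⟨m, hm⟩ := hlin i
  rw [dact_apply, hm, map_sum]
  refine sum_mem fun j _ => ?_
  rw [rc_tmul]
  exact Submodule.smul_mem _ _ (isHomogeneous_X k j)

/-- a linear action respects homogeneous components -/
theorem comp_dact (hlin : GLin.IsLinear k H ι) (g : H →ₗ[k] k) (d : ℕ) (p : P) :
    homogeneousComponent d (dact g p) = dact g (homogeneousComponent d p) := by
  induction p using MvPolynomial.induction_on generalizing g d with
  | C a =>
    have hC : (C a : P) = a • (1 : P) := by rw [Algebra.smul_def, mul_one]; rfl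
    have h1 : ∀ e, homogeneousComponent e (1 : P) = if e = 0 then 1 else 0 := fun e =>
      homogeneousComponent_of_mem (isHomogeneous_one ι k)
    rw [hC, map_smul (dact g), map_smul, map_smul, map_smul, dact_one_eq, map_smul, h1]
    split_ifs <;> simp [dact_one_eq]
  | add p q hp hq => simp only [map_add, hp, hq]
  | mul_X p i hp =>
    obtain ⟨n, φ, ψ, -, -, hd⟩ := exists_decomp (supp_bot g)
    rw [dact_mul_of_decomp hd, map_sum, comp_mul_of_homog (isHomogeneous_X k i)]
    simp only [comp_mul_of_homog (dact_X_mem hlin _ i)]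
    split_ifs
    · simp
    · simp only [dact_mul_of_decomp hd, hp]

theorem comp_mem_invariants (hlin : GLin.IsLinear k H ι) {p : P} (hp : p ∈ GLin.invariants k H P) (d : ℕ) :
    homogeneousComponent d p ∈ GLin.invariants k H P := by
  refine (GLin.mem_invariants_iff k H P _).2 (eq_of_rc fun f => ?_)
  rw [rc_tmul, ← dact_apply, ← comp_dact hlin, dact_invariant f hp, map_smul]

omit [Comod k H P] [GLin.IsCoactAlg k H P] [Module.Finite k H] [Fintype ι] in
theorem mem_ker_origin_iff (v : P) :
    v ∈ RingHom.ker (aeval (fun _ : ι => (0 : k)) : P →ₐ[k] k) ↔ v ∈ idealOfVars ι k := by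
  rw [← pow_one (idealOfVars ι k), mem_pow_idealOfVars_iff', RingHom.mem_ker]
  have : (aeval (fun _ : ι => (0 : k)) : P →ₐ[k] k) v = coeff 0 v := by
    rw [show (fun _ : ι => (0 : k)) = 0 from rfl, aeval_zero]
    simp [constantCoeff_eq]
  rw [this]
  constructor
  · intro h x hx
    rw [(Finsupp.degree_eq_zero_iff x).1 (by omega)]
    exact h
  · exact fun h => h 0 (by simp)

omit [Comod k H P] [GLin.IsCoactAlg k H P] [Module.Finite k H] [Fintype ι] in
theorem ker_origin : RingHom.ker (aeval (fun _ : ι => (0 : k)) : P →ₐ[k] k) = idealOfVars ι k :=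
  Ideal.ext mem_ker_origin_iff

omit [Comod k H P] [GLin.IsCoactAlg k H P] [Module.Finite k H] [Fintype ι] in
theorem comp_eq_zero_of_mem_pow {n d : ℕ} (hd : d < n) {v : P}
    (hv : v ∈ RingHom.ker (aeval (fun _ : ι => (0 : k)) : P →ₐ[k] k) ^ n) : homogeneousComponent d v = 0 := by
  rw [ker_origin, mem_pow_idealOfVars_iff'] at hv
  ext x
  rw [coeff_homogeneousComponent, coeff_zero]
  split_ifs with h
  · exact hv x (h ▸ hd)
  · rfl

omit [Comod k H P] [GLin.IsCoactAlg k H P] [Module.Finite k H] [Fintype ι] in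
theorem sub_comp_one_mem {v : P} (hv : v ∈ RingHom.ker (aeval (fun _ : ι => (0 : k)) : P →ₐ[k] k)) :
    v - homogeneousComponent 1 v ∈ RingHom.ker (aeval (fun _ : ι => (0 : k)) : P →ₐ[k] k) ^ 2 := by
  rw [ker_origin, ← pow_one (idealOfVars ι k), mem_pow_idealOfVars_iff'] at hv
  rw [ker_origin, mem_pow_idealOfVars_iff']
  intro x hx
  rw [coeff_sub, coeff_homogeneousComponent]
  split_ifs with h
  · rw [sub_self]
  · rw [sub_zero]; exact hv x (by omega)

omit [Module.Finite k H] in
theorem isFixedPt_origin (hlin : GLin.IsLinear k H ι) :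
    GLin.IsFixedPt k H (aeval (fun _ : ι => (0 : k)) : P →ₐ[k] k) := by
  refine MvPolynomial.algHom_ext fun i => ?_
  obtain ⟨m, hm⟩ := hlin i
  simp [GLin.orbitHom, GLin.coactAlgHom_apply, hm]

theorem isPseudoReflAt_origin (hlin : GLin.IsLinear k H ι) {I : Ideal H} (hI : GLin.IsPseudoRefl k H ι I) :
    GLin.IsPseudoReflAt k H P (aeval (fun _ : ι => (0 : k))) I := by
  obtain ⟨hH, hrank⟩ := hI
  refine ⟨hH, ?_⟩
  set x : P →ₐ[k] k := aeval (fun _ : ι => (0 : k))
  let q : P →ₗ[k] P ⧸ RingHom.ker x ^ 2 := (Ideal.Quotient.mkₐ k (RingHom.ker x ^ 2)).toLinearMap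
  have h1 : ∀ v ∈ GLin.linForms k ι, homogeneousComponent 1 v = v := fun v hv => homogeneousComponent_eq_self hv
  have hlin1 : ∀ v ∈ GLin.linForms k ι, v ∈ RingHom.ker x := fun v hv => by
    rw [ker_origin, ← pow_one (idealOfVars ι k), mem_pow_idealOfVars_iff']
    intro d hd
    exact (show IsHomogeneous v 1 from hv).coeff_eq_zero (by omega)
  have hinj : Set.InjOn q (GLin.linForms k ι : Set P) := fun v hv w hw h => by
    have h2 := comp_eq_zero_of_mem_pow (d := 1) one_lt_two (Ideal.Quotient.eq.1 h)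
    rwa [map_sub, h1 v hv, h1 w hw, sub_eq_zero] at h2
  have hsurj : ∀ v ∈ RingHom.ker x, q v = q (homogeneousComponent 1 v) := fun v hv =>
    Ideal.Quotient.eq.2 (sub_comp_one_mem hv)
  have e1 : GLin.cotSpace k P x = (GLin.linForms k ι).map q := by
    refine le_antisymm ?_ (Submodule.map_mono hlin1)
    rintro _ ⟨v, hv, rfl⟩
    exact ⟨_, homogeneousComponent_mem 1 v, (hsurj v hv).symm⟩
  have e2 : GLin.cotFixed k H P x I = (GLin.linForms k ι ⊓ GLin.quotInvariants k H P I).map q := by
    refine le_antisymm ?_ ?_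
    · rintro _ ⟨v, ⟨hv, hvf⟩, rfl⟩
      refine ⟨homogeneousComponent 1 v, ⟨homogeneousComponent_mem 1 v, ?_⟩, (hsurj v hv).symm⟩
      refine (mem_quotInvariants_iff_supp I _).2 fun g hg => ?_
      have h2 := comp_eq_zero_of_mem_pow (d := 1) one_lt_two ((mem_cotFixedLift_iff x I v).1 hvf g hg)
      rwa [map_sub, map_smul, comp_dact hlin, sub_eq_zero] at h2
    · rintro _ ⟨v, ⟨hv, hvf⟩, rfl⟩
      refine ⟨v, ⟨hlin1 v hv, (mem_cotFixedLift_iff x I v).2 fun g hg => ?_⟩, rfl⟩
      rw [(mem_quotInvariants_iff_supp I v).1 hvf g hg, sub_self]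
      exact zero_mem _
  have hr : ∀ U : Submodule k P, U ≤ GLin.linForms k ι → Module.finrank k (U.map q) = Module.finrank k U := by
    intro U hU
    have hi : Function.Injective (q.domRestrict U) := fun a b h => Subtype.ext (hinj (hU a.2) (hU b.2) h)
    rw [← LinearMap.finrank_range_of_inj hi, LinearMap.range_domRestrict]
  rw [e1, e2, hr _ inf_le_left, hr _ le_rfl]
  exact hrank

theorem isGenByPseudoReflAt_origin (hlin : GLin.IsLinear k H ι) (hgen : GLin.IsGenByPseudoRefl k H ι) :
    GLin.IsGenByPseudoReflAt k H P (aeval (fun _ : ι => (0 : k))) := by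
  refine le_bot_iff.1 (le_trans ?_ (le_of_eq hgen))
  exact sSup_le_sSup fun J hJ => ⟨hJ.1, fun I hI => hJ.2 I (isPseudoReflAt_origin hlin hI)⟩

end Groth.Agent.PsRefl34
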