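import Groth.Agent.PsRefl34.Stab
import Mathlib.RingTheory.Finiteness.Nakayama
import Mathlib.RingTheory.Localization.AtPrime.Basic
import Mathlib.LinearAlgebra.FiniteDimensional.Basic

/-!
A pseudo-reflection at a fixed rational point moves functions only along one local equation.
-/

universe u v w

open TensorProduct HopfRep

noncomputable section

namespace Groth.Agent.PsRefl34

open Groth.Agent.Comod33

variable {k : Type u} [Field k] {H : Type v} [CommRing H] [HopfAlgebra k H] [Module.Finite k H]
variable {R : Type w} [CommRing R] [Algebra k R] [Comod k H R] [GLin.IsCoactAlg k H R]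

omit [Module.Finite k H] in
theorem dact_invariant (g : H →ₗ[k] k) {c : R} (hc : c ∈ GLin.invariants k H R) : dact g c = g 1 • c := by
  rw [dact_apply, show Comod.coact (k := k) (A := H) c = c ⊗ₜ[k] (1 : H) from hc, rc_tmul]

omit [Module.Finite k H] in
/-- the action of functionals is linear over the invariants -/
theorem dact_invariant_mul (g : H →ₗ[k] k) {c : R} (hc : c ∈ GLin.invariants k H R) (v : R) :
    dact g (c * v) = c * dact g v := by
  rw [dact_apply, dact_apply, GLin.IsCoactAlg.coact_mul,
    show Comod.coact (k := k) (A := H) c = c ⊗ₜ[k] (1 : H) from hc]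
  generalize Comod.coact (k := k) (A := H) v = t
  induction t with
  | zero => simp
  | add a b ha hb => simp only [map_add, mul_add, ha, hb]
  | tmul r a => simp [Algebra.TensorProduct.tmul_mul_tmul]

omit [Module.Finite k H] in
theorem fixedPt_dact {x : R →ₐ[k] k} (hx : GLin.IsFixedPt k H x) (g : H →ₗ[k] k) (v : R) :
    x (dact g v) = g 1 * x v := by
  have h : g (GLin.orbitHom k H x v) = x (dact g v) := by
    show g (Algebra.TensorProduct.lid k H (Algebra.TensorProduct.map x (AlgHom.id k H)
      (Comod.coact (k := k) (A := H) v))) = x (rc g (Comod.coact (k := k) (A := H) v))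
    generalize Comod.coact (k := k) (A := H) v = t
    induction t with
    | zero => simp
    | add a b ha hb => simp only [map_add, ha, hb]
    | tmul r a => simp [mul_comm]
  rw [← h, show GLin.orbitHom k H x = _ from hx, AlgHom.comp_apply, Algebra.ofId_apply,
    Algebra.algebraMap_eq_smul_one, map_smul, smul_eq_mul, mul_comm]

omit [Module.Finite k H] in
theorem dact_mem_ker {x : R →ₐ[k] k} (hx : GLin.IsFixedPt k H x) (g : H →ₗ[k] k) {v : R}
    (hv : v ∈ RingHom.ker x) : dact g v ∈ RingHom.ker x := by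
  rw [RingHom.mem_ker, fixedPt_dact hx, RingHom.mem_ker.1 hv, mul_zero]

theorem dact_mem_ker_mul {x : R →ₐ[k] k} (hx : GLin.IsFixedPt k H x) (g : H →ₗ[k] k) {v : R}
    (hv : v ∈ RingHom.ker x * RingHom.ker x) : dact g v ∈ RingHom.ker x * RingHom.ker x := by
  obtain ⟨n, φ, ψ, -, -, hd⟩ := exists_decomp (supp_bot g)
  induction hv using Submodule.mul_induction_on' with
  | mem_mul_mem a ha b hb =>
    rw [dact_mul_of_decomp hd]
    exact sum_mem fun i _ => Ideal.mul_mem_mul (dact_mem_ker hx _ ha) (dact_mem_ker hx _ hb)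
  | add a _ b _ ha hb => rw [map_add]; exact add_mem ha hb

theorem mem_cotFixedLift_iff (x : R →ₐ[k] k) (I : Ideal H) (v : R) :
    v ∈ GLin.cotFixedLift k H R x I ↔
      ∀ g : H →ₗ[k] k, Supp I g → dact g v - g 1 • v ∈ RingHom.ker x ^ 2 := by
  let π := (Ideal.Quotient.mkₐ k (RingHom.ker x ^ 2)).toLinearMap
  have key : ∀ (g' : H ⧸ I →ₗ[k] k),
      rc g' (TensorProduct.map π (Ideal.Quotient.mkₐ k I).toLinearMap (Comod.coact (k := k) (A := H) v)) =
        π (dact (g' ∘ₗ (Ideal.Quotient.mkₐ k I).toLinearMap) v) := by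
    intro g'
    rw [dact_apply]
    generalize Comod.coact (k := k) (A := H) v = t
    induction t with
    | zero => simp
    | add a b ha hb => simp only [map_add, ha, hb]
    | tmul r a => simp [π]
  constructor
  · intro h g hg
    let g' : H ⧸ I →ₗ[k] k := (I.restrictScalars k).liftQ g hg
    have h2 := congrArg (rc (V := R ⧸ RingHom.ker x ^ 2) g') h
    simp only [LinearMap.comp_apply, LinearMap.flip_apply, TensorProduct.mk_apply, rc_tmul] at h2
    rw [key, ← map_smul] at h2
    exact Ideal.Quotient.eq.1 h2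
  · intro h
    refine eq_of_rc fun g' => ?_
    simp only [LinearMap.comp_apply, LinearMap.flip_apply, TensorProduct.mk_apply, rc_tmul]
    rw [key, ← map_smul]
    refine Ideal.Quotient.eq.2 (h _ fun a ha => ?_)
    simp [Ideal.Quotient.eq_zero_iff_mem.2 ha]

/-- A pseudo-reflection at a fixed point: after multiplying by a unit `σ` at `x`, all `dact g - g 1`
are divisible by one element `c` of the maximal ideal of `x` which is not in its square. -/
theorem exists_principal [IsNoetherianRing R] {x : R →ₐ[k] k} (hx : GLin.IsFixedPt k H x) {I : Ideal H}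
    (hI : GLin.IsPseudoReflAt k H R x I) (hlr : ∀ [I.IsHopfIdeal k], IsLinearlyReductive k (H ⧸ I)) :
    ∃ c ∈ RingHom.ker x, c ∉ RingHom.ker x ^ 2 ∧ ∃ σ ∉ RingHom.ker x,
      ∀ g : H →ₗ[k] k, Supp I g → ∀ v : R, c ∣ σ * (dact g v - g 1 • v) := by
  obtain ⟨hHopf, hcodim⟩ := hI
  obtain ⟨l, hl1, hls, hll, hlr'⟩ := exists_subgroup_integral (k := k) I hlr
  set m := RingHom.ker x with hm
  let P : R →ₗ[k] R := dact l
  have hPfix : ∀ g : H →ₗ[k] k, Supp I g → ∀ v, dact g (P v) = g 1 • P v := fun g hg v => by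
    simp only [P, dact_dact, hll g hg, dact_smul, LinearMap.smul_apply]
  have hPd : ∀ g : H →ₗ[k] k, Supp I g → ∀ v, P (dact g v) = g 1 • P v := fun g hg v => by
    simp only [P, dact_dact, hlr' g hg, dact_smul, LinearMap.smul_apply]
  have hPP : ∀ v, P (P v) = P v := fun v => by rw [hPd l hls, hl1, one_smul]
  have hker : ∀ v, v - P v ∈ LinearMap.ker P := fun v => by simp [hPP]
  have hD : ∀ g : H →ₗ[k] k, Supp I g → ∀ v, dact g v - g 1 • v ∈ LinearMap.ker P := fun g hg v => by
    simp [hPd g hg]
  -- linearity of `P` over the elements it fixes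
  have hPlin : ∀ u v, P (P u * v) = P u * P v := by
    intro u v
    obtain ⟨n, φ, ψ, hφ, -, hd⟩ := exists_decomp hls
    have hsum : ∑ i, φ i 1 • ψ i = l := by
      refine LinearMap.ext fun a => ?_
      have h := hd 1 a
      rw [one_mul] at h
      simp [h]
    show dact l (P u * v) = _
    rw [dact_mul_of_decomp hd]
    simp only [hPfix _ (hφ _), smul_mul_assoc]
    simp only [← mul_smul_comm, ← Finset.mul_sum]
    congr 1
    rw [show P v = dactL k H R l v from rfl, ← hsum, map_sum, LinearMap.sum_apply]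
    exact Finset.sum_congr rfl fun i _ => by rw [map_smul]; rfl
  have hkm : ∀ v ∈ LinearMap.ker P, v ∈ m := fun v hv => by
    have h := fixedPt_dact hx l v
    rw [show dact l v = 0 from hv, map_zero, hl1, one_mul] at h
    exact h.symm
  let J : Ideal R := Ideal.span (LinearMap.ker P : Set R)
  have hJm : J ≤ m := Ideal.span_le.2 hkm
  have hJ : ∀ g : H →ₗ[k] k, Supp I g → ∀ v ∈ J, dact g v ∈ J := by
    intro g hg v hv
    induction hv using Submodule.span_induction generalizing g with
    | mem v hv =>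
      have h1 : dact g v - g 1 • v ∈ J := Ideal.subset_span (hD g hg v)
      have h2 : g 1 • v ∈ J := Submodule.smul_of_tower_mem _ _ (Ideal.subset_span hv)
      simpa using add_mem h1 h2
    | zero => simp
    | add a b _ _ ha hb => rw [map_add]; exact add_mem (ha g hg) (hb g hg)
    | smul r v _ ih =>
      obtain ⟨n, φ, ψ, -, hψ, hd⟩ := exists_decomp hg
      rw [smul_eq_mul, dact_mul_of_decomp hd]
      exact sum_mem fun i _ => J.mul_mem_left _ (ih _ (hψ i))
  have hJJ : ∀ a ∈ J, ∀ b ∈ J, P (a * b) ∈ m * J := by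
    intro a ha b hb
    obtain ⟨n, φ, ψ, hφ, hψ, hd⟩ := exists_decomp hls
    show dact l (a * b) ∈ _
    rw [dact_mul_of_decomp hd]
    exact sum_mem fun i _ => Ideal.mul_mem_mul (hJm (hJ _ (hφ i) _ ha)) (hJ _ (hψ i) _ hb)
  have hsq : ∀ v ∈ m * m, v - P v ∈ m * J := by
    intro v hv
    induction hv using Submodule.mul_induction_on' with
    | mem_mul_mem a ha b hb =>
      have hPa : P a ∈ m := dact_mem_ker hx _ ha
      have hPb : P b ∈ m := dact_mem_ker hx _ hb
      have ha' : a - P a ∈ J := Ideal.subset_span (hker a)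
      have hb' : b - P b ∈ J := Ideal.subset_span (hker b)
      have e1 : P (a * b) = P a * P b + P ((a - P a) * (b - P b)) := by
        have e : a * b = P a * P b + P a * (b - P b) + P b * (a - P a) + (a - P a) * (b - P b) := by ring
        conv_lhs => rw [e]
        simp only [map_add, hPlin, map_sub, hPP, sub_self, mul_zero, add_zero]
      have e2 : a * b - P (a * b) = P a * (b - P b) + P b * (a - P a) + (a - P a) * (b - P b) -
          P ((a - P a) * (b - P b)) := by rw [e1]; ring
      rw [e2]
      exact sub_mem (add_mem (add_mem (Ideal.mul_mem_mul hPa hb') (Ideal.mul_mem_mul hPb ha'))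
        (Ideal.mul_mem_mul (hJm ha') hb')) (hJJ _ ha' _ hb')
    | add a _ b _ ha hb =>
      have : a + b - P (a + b) = (a - P a) + (b - P b) := by rw [map_add]; ring
      rw [this]
      exact add_mem ha hb
  -- the moved cotangent vectors form a line
  let q : R →ₗ[k] R ⧸ m ^ 2 := (Ideal.Quotient.mkₐ k (m ^ 2)).toLinearMap
  let L : Submodule k (R ⧸ m ^ 2) := (LinearMap.ker P).map q
  have hfixP : ∀ v ∈ m, v ∈ GLin.cotFixedLift k H R x I → q v = q (P v) := fun v hv hvf => by
    have h := (mem_cotFixedLift_iff x I v).1 hvf l hls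
    rw [hl1, one_smul] at h
    exact (Ideal.Quotient.eq.2 h).symm
  have hPlift : ∀ v, P v ∈ GLin.cotFixedLift k H R x I := fun v => by
    refine (mem_cotFixedLift_iff x I _).2 fun g hg => ?_
    rw [hPfix g hg, sub_self]
    exact zero_mem _
  have hsup : GLin.cotFixed k H R x I ⊔ L = GLin.cotSpace k R x := by
    refine le_antisymm (sup_le (Submodule.map_mono inf_le_left) (Submodule.map_mono hkm)) ?_
    rintro _ ⟨v, hv, rfl⟩
    rw [show v = P v + (v - P v) by abel, map_add]
    exact add_mem (Submodule.mem_sup_left ⟨P v, ⟨dact_mem_ker hx l hv, hPlift v⟩, rfl⟩)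
      (Submodule.mem_sup_right ⟨_, hker v, rfl⟩)
  have hinf : GLin.cotFixed k H R x I ⊓ L = ⊥ := by
    rw [Submodule.eq_bot_iff]
    rintro _ ⟨⟨u, ⟨hu, huf⟩, rfl⟩, ⟨v, hv, hvu⟩⟩
    have h1 : v - P u ∈ m * m := by
      rw [← pow_two]
      refine Ideal.Quotient.eq.1 ?_
      exact hvu.trans (hfixP u hu huf)
    have h2 := dact_mem_ker_mul hx l h1
    rw [map_sub, show dact l v = 0 from hv, zero_sub, Ideal.neg_mem_iff] at h2
    rw [hfixP u hu huf]
    refine Ideal.Quotient.eq_zero_iff_mem.2 ?_
    rw [pow_two, ← hPP u]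
    exact h2
  have hfin : FiniteDimensional k ↥(GLin.cotSpace k R x) :=
    FiniteDimensional.of_finrank_pos (by omega)
  have hF : FiniteDimensional k ↥(GLin.cotFixed k H R x I) :=
    Submodule.finiteDimensional_of_le (le_sup_left.trans hsup.le)
  have hL : FiniteDimensional k ↥L := Submodule.finiteDimensional_of_le (le_sup_right.trans hsup.le)
  have hone : Module.finrank k ↥L = 1 := by
    have h := Submodule.finrank_sup_add_finrank_inf_eq (GLin.cotFixed k H R x I) L
    rw [hsup, hinf, finrank_bot, add_zero] at h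
    linarith [hcodim, h]
  obtain ⟨⟨_, c, hc, rfl⟩, hc0, hspan⟩ := finrank_eq_one_iff'.1 hone
  refine ⟨c, hkm c hc, fun h => hc0 (Subtype.ext (Ideal.Quotient.eq_zero_iff_mem.2 h)), ?_⟩
  have hJle : J ≤ Ideal.span {c} ⊔ m * J := by
    refine Ideal.span_le.2 fun v hv => ?_
    obtain ⟨t, ht⟩ := hspan ⟨q v, v, hv, rfl⟩
    have h1 : v - t • c ∈ m * m := by
      rw [← pow_two]
      refine Ideal.Quotient.eq.1 ?_
      have := congrArg Subtype.val ht
      simp only [SetLike.val_smul, ← map_smul] at this
      exact this.symm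
    have h2 := hsq _ h1
    rw [show P (v - t • c) = 0 from sub_mem hv (Submodule.smul_mem _ t hc), sub_zero] at h2
    rw [show v = t • c + (v - t • c) by abel]
    exact add_mem (Submodule.mem_sup_left (Submodule.smul_of_tower_mem _ _ (Ideal.mem_span_singleton_self c)))
      (Submodule.mem_sup_right h2)
  -- Nakayama on `J / (c)`
  let N : Submodule R (R ⧸ Ideal.span {c}) := Submodule.map (Ideal.span {c}).mkQ J
  have hN : N ≤ m • N := by
    refine (Submodule.map_mono hJle).trans ?_
    rw [Submodule.map_sup, sup_le_iff]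
    refine ⟨le_of_eq_of_le (LinearMap.le_ker_iff_map.1 (by rw [Submodule.ker_mkQ])) bot_le, ?_⟩
    rw [← smul_eq_mul, Submodule.map_smul'']
  obtain ⟨σ, hσ, hkill⟩ :=
    Submodule.exists_sub_one_mem_and_smul_eq_zero_of_fg_of_le_smul m N ((IsNoetherian.noetherian J).map _) hN
  refine ⟨σ, fun h => ?_, fun g hg v => ?_⟩
  · have h1 : (1 : R) ∈ m := by simpa using sub_mem h hσ
    rw [hm, RingHom.mem_ker, map_one] at h1
    exact one_ne_zero h1
  · have h := hkill _ (Submodule.mem_map_of_mem (Ideal.subset_span (hD g hg v)))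
    rw [← map_smul, Submodule.mkQ_apply, Submodule.Quotient.mk_eq_zero] at h
    exact Ideal.mem_span_singleton.1 h

end Groth.Agent.PsRefl34
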