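import Groth.Agent.PsRefl34.TorVanish
import Groth.Agent.CAlg1.Serre
import Mathlib.RingTheory.LocalRing.Module
import Mathlib.RingTheory.Localization.Finiteness
import Mathlib.RingTheory.Localization.BaseChange

/-!
The ring of invariants of a group generated by pseudo-reflections is regular below a fixed point.
-/

universe u

open TensorProduct HopfRep

noncomputable section

namespace Groth.Agent.PsRefl34

open Groth.Agent.Comod33

variable {k : Type u} [Field k] {H : Type u} [CommRing H] [HopfAlgebra k H] [Module.Finite k H]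
variable {R : Type u} [CommRing R] [Algebra k R] [Comod k H R] [GLin.IsCoactAlg k H R]
variable {x : R →ₐ[k] k}

local notation "Cv" => GLin.invariants k H R

/-- over the image of a fixed point lies only that point -/
theorem eq_ker_of_under_eq (hx : GLin.IsFixedPt k H x) (Q : Ideal R) [Q.IsPrime]
    (h : Q.comap (algebraMap Cv R) = yI H x) : Q = RingHom.ker x := by
  obtain ⟨T, hT, hs, ht⟩ := (FinGrp34.grpd (k := k) (H := H) R).exists_arrow (FinGrp34.isInvariants_grpd R)
    Q (RingHom.ker x) (h.trans rfl)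
  have hsm : ∀ a ∈ RingHom.ker x, a ⊗ₜ[k] (1 : H) ∈ T := fun a ha => by
    have : a ∈ T.comap (FinGrp34.grpd (k := k) (H := H) R).s := hs.symm ▸ ha
    exact this
  have hz : ∀ z : R ⊗[k] H, z - (1 : R) ⊗ₜ[k] (Algebra.TensorProduct.lid k H
      (Algebra.TensorProduct.map x (AlgHom.id k H) z)) ∈ T := by
    intro z
    induction z with
    | zero => simp
    | add a b ha hb =>
      rw [map_add, map_add, tmul_add, show a + b - (((1 : R) ⊗ₜ[k] _) + ((1 : R) ⊗ₜ[k] _)) = _ from add_sub_add_comm _ _ _ _]
      exact add_mem ha hb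
    | tmul a c =>
      simp only [Algebra.TensorProduct.map_tmul, AlgHom.id_apply, Algebra.TensorProduct.lid_tmul]
      rw [← smul_tmul, ← sub_tmul, show (a - x a • (1 : R)) ⊗ₜ[k] c = ((a - x a • (1 : R)) ⊗ₜ[k] 1) * ((1 : R) ⊗ₜ[k] c) by simp]
      exact T.mul_mem_right _ (hsm _ (by simp [RingHom.mem_ker]))
  have hle : RingHom.ker x ≤ Q := fun r hr => by
    rw [← ht, Ideal.mem_comap]
    show Comod.coact (k := k) (A := H) r ∈ T
    have h1 := hz (Comod.coact (k := k) (A := H) r)
    have h2 : Algebra.TensorProduct.lid k H (Algebra.TensorProduct.map x (AlgHom.id k H)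
        (Comod.coact (k := k) (A := H) r)) = 0 := by
      show GLin.orbitHom k H x r = 0
      rw [show GLin.orbitHom k H x = _ from hx, AlgHom.comp_apply, RingHom.mem_ker.1 hr, map_zero]
    rwa [h2, tmul_zero, sub_zero] at h1
  have hmax : (RingHom.ker x).IsMaximal :=
    RingHom.ker_isMaximal_of_surjective x fun c => ⟨algebraMap k R c, x.commutes c⟩
  exact (hmax.eq_of_le (Ideal.IsPrime.ne_top ‹_›) hle).symm

/-- If the invariants below `x` have no conormal Tor, their localisation is regular. -/
theorem isRegular_invariants [Algebra.FiniteType k R]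
    (hreg : IsRegularLocalRing (Localization.AtPrime (RingHom.ker x)))
    (hG : IsLinearlyReductive k H) (hsub : ∀ (I : Ideal H) [I.IsHopfIdeal k], IsLinearlyReductive k (H ⧸ I))
    (hx : GLin.IsFixedPt k H x) (hgen : GLin.IsGenByPseudoReflAt k H R x) [(yI H x).IsPrime] :
    IsRegularLocalRing (Localization.AtPrime (yI H x)) := by
  have : IsNoetherianRing R := Algebra.FiniteType.isNoetherianRing k R
  have : IsNoetherianRing Cv := FinGrp34.isNoetherianRing_invariants_of_finite R
  have : Algebra.IsIntegral Cv R := FinGrp34.isIntegral_over_invariants R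
  have : Module.Finite Cv R := FinGrp34.moduleFinite_over_invariants R
  -- divisibility of functions not vanishing at `x` into invariants
  have hup : ∀ (J : Ideal R), ¬ J ≤ RingHom.ker x → ∃ a ∉ yI H x, algebraMap Cv R a ∈ J := by
    intro J hJ
    by_contra! hno
    obtain ⟨Q, hQJ, hQ, hQy⟩ := Ideal.exists_ideal_over_prime_of_isIntegral (yI H x) J
      fun a ha => by_contra fun h => hno a h ha
    exact hJ (eq_ker_of_under_eq hx Q hQy ▸ hQJ)
  obtain ⟨σ, hσ, hkill⟩ := exists_smul_ker_eq_zero hreg hG hsub hx hgen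
  obtain ⟨a, ha, haσ⟩ := hup (Ideal.span {σ}) (fun h => hσ (h (Ideal.mem_span_singleton_self σ)))
  have hakill : ∀ t ∈ LinearMap.ker (muY H x), a • t = 0 := fun t ht => by
    obtain ⟨d, hd⟩ := Ideal.mem_span_singleton'.1 haσ
    rw [← algebraMap_smul R a t, ← hd, mul_smul, hkill t ht, smul_zero]
  set y := yI H x
  let Cy := Localization.AtPrime y
  let Rm := Localization.AtPrime (RingHom.ker x)
  have : (RingHom.ker x).LiesOver y := ⟨rfl⟩
  let := Localization.AtPrime.algebraOfLiesOver y (RingHom.ker x)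
  have : IsScalarTower Cv Cy Rm := .of_algebraMap_eq fun c => by
    show _ = Localization.localRingHom y (RingHom.ker x) (algebraMap Cv R) _ (algebraMap Cv Cy c)
    rw [Localization.localRingHom_to_map]
    exact IsScalarTower.algebraMap_apply Cv R Rm c
  -- `Rm` is the localisation of `R` at `y`
  have hloc : IsLocalization (Algebra.algebraMapSubmonoid R y.primeCompl) Rm := by
    refine (IsLocalization.iff_of_le_of_exists_dvd (S := Rm) (M := Algebra.algebraMapSubmonoid R y.primeCompl)
      (RingHom.ker x).primeCompl ?_ fun n hn => ?_).2 inferInstance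
    · rintro _ ⟨b, hb, rfl⟩ hm
      exact hb hm
    · obtain ⟨b, hb, hbn⟩ := hup (Ideal.span {n}) (fun h => hn (h (Ideal.mem_span_singleton_self n)))
      exact ⟨_, ⟨b, hb, rfl⟩, Ideal.mem_span_singleton.1 hbn⟩
  let j : R →ₗ[Cv] Rm := (IsScalarTower.toAlgHom Cv R Rm).toLinearMap
  have : IsLocalizedModule y.primeCompl j := isLocalizedModule_iff_isLocalization.2 hloc
  have : Module.Finite Cy Rm := Module.Finite.of_isLocalizedModule y.primeCompl j
  have : IsNoetherianRing Cy := IsLocalization.isNoetherianRing y.primeCompl _ inferInstance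
  have : Module.FinitePresentation Cy Rm := Module.finitePresentation_of_finite Cy Rm
  have : Module.Free Cy Rm := by
    refine Module.free_of_maximalIdeal_rTensor_injective ((injective_iff_map_eq_zero _).2 fun t ht => ?_)
    let 𝔪 := IsLocalRing.maximalIdeal Cy
    let jy : y →ₗ[Cv] 𝔪 :=
      { toFun := fun b => ⟨algebraMap Cv Cy b,
          (IsLocalization.AtPrime.to_map_mem_maximal_iff Cy y _).2 b.2⟩
        map_add' := fun b c => Subtype.ext (map_add _ _ _)
        map_smul' := fun d b => Subtype.ext (by simp [Algebra.smul_def]) }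
    let ψ : R ⊗[Cv] ↥y →ₗ[Cv] 𝔪 ⊗[Cy] Rm := TensorProduct.lift (LinearMap.mk₂ Cv
      (fun r b => jy b ⊗ₜ[Cy] j r)
      (fun r r' b => by rw [map_add, tmul_add])
      (fun c r b => by rw [map_smul, tmul_smul])
      (fun r b b' => by rw [map_add, add_tmul])
      (fun c r b => by rw [map_smul, smul_tmul']))
    have hψ : ∀ n, TensorProduct.lid Cy Rm (𝔪.subtype.rTensor Rm (ψ n)) = j (muY H x n) := by
      intro n
      induction n with
      | zero => simp
      | add p q hp hq => simp only [map_add, hp, hq]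
      | tmul r b =>
        rw [muY_tmul]
        show (algebraMap Cv Cy (b : Cv)) • algebraMap R Rm r = algebraMap R Rm (algebraMap Cv R (b : Cv) * r)
        rw [algebraMap_smul, Algebra.smul_def, map_mul, ← IsScalarTower.algebraMap_apply Cv R Rm]
    have hdiv : ∀ s : 𝔪 ⊗[Cy] Rm, ∃ c ∈ y.primeCompl, ∃ n, c • s = ψ n := by
      intro s
      induction s with
      | zero => exact ⟨1, one_mem _, 0, by simp⟩
      | add p q hp hq =>
        obtain ⟨c, hc, n, hn⟩ := hp
        obtain ⟨c', hc', n', hn'⟩ := hq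
        exact ⟨c * c', mul_mem hc hc', c' • n + c • n', by
          rw [map_add, map_smul, map_smul, ← hn, ← hn', smul_smul, smul_smul, smul_add, mul_comm c']⟩
      | tmul p q =>
        obtain ⟨⟨b, c⟩, hbc⟩ := IsLocalization.surj y.primeCompl (p : Cy)
        obtain ⟨⟨r, c'⟩, hrc⟩ := IsLocalizedModule.surj y.primeCompl j q
        have hb : b ∈ y := (IsLocalization.AtPrime.to_map_mem_maximal_iff Cy y b).1
          (hbc ▸ Ideal.mul_mem_right _ _ p.2)
        refine ⟨(c : Cv) * c', mul_mem c.2 c'.2, r ⊗ₜ[Cv] ⟨b, hb⟩, ?_⟩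
        show _ = jy ⟨b, hb⟩ ⊗ₜ[Cy] j r
        rw [mul_smul, ← tmul_smul, smul_tmul']
        refine congrArg₂ (· ⊗ₜ[Cy] ·) (Subtype.ext ?_) (by exact hrc)
        show (c : Cv) • (p : Cy) = algebraMap Cv Cy b
        rw [← hbc, Algebra.smul_def, mul_comm]
    obtain ⟨c, hc, n, hn⟩ := hdiv t
    have h1 : j (muY H x n) = 0 := by
      rw [← hψ, ← hn, ← algebraMap_smul Cy c t, map_smul, map_smul]
      rw [show (𝔪.subtype.rTensor Rm) t = 0 from ht, map_zero, smul_zero]
    obtain ⟨⟨c', hc'⟩, hc'n⟩ := (IsLocalizedModule.eq_zero_iff y.primeCompl j).1 h1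
    have h2 : c' • n ∈ LinearMap.ker (muY H x) := by
      rw [LinearMap.mem_ker, LinearMap.map_smul_of_tower]
      exact hc'n
    have h3 : (a * c' * c) • t = 0 := by
      rw [mul_smul, hn, mul_smul, ← map_smul, ← map_smul, hakill _ h2, map_zero]
    have h4 : IsUnit (algebraMap Cv Cy (a * c' * c)) :=
      IsLocalization.map_units Cy ⟨a * c' * c, mul_mem (mul_mem ha hc') hc⟩
    rw [← algebraMap_smul Cy (a * c' * c) t] at h3
    exact h4.smul_eq_zero.1 h3
  have : IsLocalHom (algebraMap Cy Rm) := Localization.isLocalHom_localRingHom y (RingHom.ker x) _ _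
  exact CAlg1.regular_of_flat Cy Rm

end Groth.Agent.PsRefl34
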