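import Groth.Agent.PsRefl34.Funct
import Groth.Agent.Hopf34.DualSep
import Groth.Prelude.Def_W4c6stackyreslrsPsRefl

/-!
The stabiliser of a vector of a representation of a finite group scheme is a closed subgroup scheme.
-/

universe u v w

open TensorProduct HopfRep

noncomputable section

namespace Groth.Agent.PsRefl34

open Groth.Agent.Comod33

variable {k : Type u} [Field k] {H : Type v} [CommRing H] [HopfAlgebra k H] [Module.Finite k H]
variable {W : Type w} [AddCommGroup W] [Module k W] (α : (H →ₗ[k] k) →ₗ[k] Module.End k W)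

local notation "b" => Module.finBasis k H

/-- matrix coefficient -/
def cElt (φ : W →ₗ[k] k) (w : W) : H := ∑ i, φ (α ((b).coord i) w) • (b) i

theorem apply_cElt (φ : W →ₗ[k] k) (w : W) (g : H →ₗ[k] k) : g (cElt α φ w) = φ (α g w) := by
  have hg : g = ∑ i, g ((b) i) • (b).coord i := by
    refine (b).ext fun j => ?_
    simp [Finsupp.single_apply, Finset.sum_ite_eq]
  conv_rhs => rw [hg]
  simp only [cElt, map_sum, map_smul, LinearMap.sum_apply, LinearMap.smul_apply, smul_eq_mul, mul_comm]

/-- the ideal of the stabiliser of a vector -/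
def stab (w : W) : Ideal H := Ideal.span (Set.range fun φ : W →ₗ[k] k => cElt α φ w - algebraMap k H (φ w))

theorem cElt_sub_mem (φ : W →ₗ[k] k) (w : W) : cElt α φ w - algebraMap k H (φ w) ∈ stab α w :=
  Ideal.subset_span ⟨φ, rfl⟩

theorem fixed_of_supp {w : W} {g : H →ₗ[k] k} (hg : Supp (stab α w) g) : α g w = g 1 • w := by
  refine sub_eq_zero.1 ((Module.forall_dual_apply_eq_zero_iff k _).1 fun φ => ?_)
  have h := hg _ (cElt_sub_mem α φ w)
  rw [map_sub, apply_cElt, Algebra.algebraMap_eq_smul_one, map_smul, smul_eq_mul] at h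
  rw [map_sub, map_smul, smul_eq_mul, mul_comm]
  exact h

theorem stab_le {w : W} {I : Ideal H} (h : ∀ g : H →ₗ[k] k, Supp I g → α g w = g 1 • w) : stab α w ≤ I := by
  refine Ideal.span_le.2 ?_
  rintro _ ⟨φ, rfl⟩
  refine mem_of_forall_supp (k := k) fun g hg => ?_
  rw [map_sub, apply_cElt, h g hg, map_smul, Algebra.algebraMap_eq_smul_one, map_smul, smul_eq_mul,
    smul_eq_mul, mul_comm, sub_self]

variable (hmul : ∀ f g : H →ₗ[k] k, α (WithConv.toConv f * WithConv.toConv g).ofConv = α f * α g)
  (hone : α (Coalgebra.counit (R := k) (A := H) : H →ₗ[k] k) = 1)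

include hmul in
theorem comul_cElt (φ : W →ₗ[k] k) (w : W) :
    CoalgebraStruct.comul (R := k) (cElt α φ w) = ∑ i, (b) i ⊗ₜ[k] cElt α (φ ∘ₗ α ((b).coord i)) w := by
  refine Hopf34.ext_dualPair fun f g => ?_
  have h1 : LinearMap.mul' k k (TensorProduct.map f g (CoalgebraStruct.comul (R := k) (cElt α φ w))) =
      φ (α f (α g w)) := by
    have e : LinearMap.mul' k k (TensorProduct.map f g (CoalgebraStruct.comul (R := k) (cElt α φ w))) =
        (WithConv.toConv f * WithConv.toConv g).ofConv (cElt α φ w) := by
      rw [LinearMap.convMul_def]; rfl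
    rw [e, apply_cElt, hmul]
    rfl
  rw [h1]
  simp only [map_sum, TensorProduct.map_tmul, LinearMap.mul'_apply, apply_cElt, LinearMap.comp_apply]
  rw [← apply_cElt α φ (α g w) f, cElt, map_sum]
  exact Finset.sum_congr rfl fun i _ => by rw [map_smul, smul_eq_mul, mul_comm]

include hone in
theorem counit_cElt (φ : W →ₗ[k] k) (w : W) : Coalgebra.counit (R := k) (cElt α φ w) = φ w := by
  rw [apply_cElt, hone]
  rfl

include hmul hone in
theorem isHopfIdeal_stab (w : W) : (stab α w).IsHopfIdeal k := by
  have hkey : stab α w ≤ RingHom.ker (Bialgebra.counitAlgHom k H) := by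
    refine Ideal.span_le.2 ?_
    rintro _ ⟨φ, rfl⟩
    simp [RingHom.mem_ker, counit_cElt α hone]
  let π : H →ₐ[k] H ⧸ stab α w := Ideal.Quotient.mkₐ k _
  refine { counit_eq_zero := fun x hx => hkey hx, map_mkQ_comul_eq_zero := fun x hx => ?_, antipode_mem := fun x hx => ?_ }
  · have h2 : stab α w ≤ RingHom.ker ((Algebra.TensorProduct.map π π).comp (Bialgebra.comulAlgHom k H)) := by
      refine Ideal.span_le.2 ?_
      rintro _ ⟨φ, rfl⟩
      rw [SetLike.mem_coe, RingHom.mem_ker]
      have : Module.Finite k (H ⧸ stab α w) := Module.Finite.of_surjective π.toLinearMap Ideal.Quotient.mk_surjective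
      refine Hopf34.ext_dualPair fun f g => ?_
      have e : ∀ z : H ⊗[k] H, LinearMap.mul' k k (TensorProduct.map f g (Algebra.TensorProduct.map π π z)) =
          LinearMap.mul' k k (TensorProduct.map (f ∘ₗ π.toLinearMap) (g ∘ₗ π.toLinearMap) z) := fun z => by
        induction z with
        | zero => simp
        | add p q hp hq => simp only [map_add, hp, hq]
        | tmul p q => simp
      rw [AlgHom.comp_apply, e, map_zero, map_zero]
      show (WithConv.toConv (f ∘ₗ π.toLinearMap) * WithConv.toConv (g ∘ₗ π.toLinearMap)).ofConv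
        (cElt α φ w - algebraMap k H (φ w)) = 0
      have hs : ∀ q : H ⧸ stab α w →ₗ[k] k, Supp (stab α w) (q ∘ₗ π.toLinearMap) := fun q a ha => by
        simp [π, Ideal.Quotient.eq_zero_iff_mem.2 ha]
      rw [map_sub, apply_cElt, hmul, Module.End.mul_apply, fixed_of_supp α (hs g), map_smul,
        fixed_of_supp α (hs f), map_smul, map_smul, Algebra.algebraMap_eq_smul_one, map_smul]
      simp [LinearMap.convMul_def, Algebra.TensorProduct.one_def]
      ring
    have h3 := h2 hx
    rw [RingHom.mem_ker] at h3
    refine Eq.trans ?_ h3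
    show _ = Algebra.TensorProduct.map π π (CoalgebraStruct.comul (R := k) x)
    generalize CoalgebraStruct.comul (R := k) x = z
    induction z with
    | zero => simp; rfl
    | add p q hp hq => simp only [map_add, hp, hq]; rfl
    | tmul p q => rfl
  · have h4 : stab α w ≤ (stab α w).comap (HopfAlgebra.antipodeAlgHom k H) := by
      refine Ideal.span_le.2 ?_
      rintro _ ⟨φ, rfl⟩
      rw [SetLike.mem_coe, Ideal.mem_comap]
      have h := HopfAlgebra.mul_antipode_rTensor_comul_apply (R := k) (cElt α φ w)
      rw [comul_cElt α hmul, counit_cElt α hone] at h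
      simp only [map_sum, LinearMap.rTensor_tmul, LinearMap.mul'_apply] at h
      beta_reduce
      rw [map_sub, HopfAlgebra.antipodeAlgHom_apply, AlgHom.commutes, ← h]
      rw [show HopfAlgebraStruct.antipode (R := k) (cElt α φ w) =
        ∑ i, φ (α ((b).coord i) w) • HopfAlgebraStruct.antipode (R := k) ((b) i) by simp [cElt]]
      rw [← Finset.sum_sub_distrib]
      refine sum_mem fun i _ => ?_
      rw [Algebra.smul_def, mul_comm, ← mul_sub, ← neg_sub, mul_neg]
      exact neg_mem (Ideal.mul_mem_left _ _ (cElt_sub_mem α (φ ∘ₗ α ((b).coord i)) w))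
    exact h4 hx

section Fixed

variable {R : Type w} [AddCommGroup R] [Module k R] [Comod k H R]

variable (k H R) in
/-- the action of functionals on a comodule -/
def dactL : (H →ₗ[k] k) →ₗ[k] Module.End k R where
  toFun f := dact f
  map_add' f g := dact_add f g
  map_smul' c f := dact_smul c f

omit [Module.Finite k H] in
theorem dactL_mul (f g : H →ₗ[k] k) :
    dactL k H R (WithConv.toConv f * WithConv.toConv g).ofConv = dactL k H R f * dactL k H R g :=
  LinearMap.ext fun v => (dact_dact f g v).symm

omit [Module.Finite k H] in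
theorem dactL_one : dactL k H R (Coalgebra.counit (R := k) (A := H)) = 1 :=
  LinearMap.ext fun v => dact_counit v

omit [Module.Finite k H] in
theorem mem_quotInvariants_iff_supp (I : Ideal H) (v : R) :
    v ∈ GLin.quotInvariants k H R I ↔ ∀ g : H →ₗ[k] k, Supp I g → dact g v = g 1 • v := by
  rw [GLin.mem_quotInvariants_iff]
  constructor
  · intro h g hg
    let g' : H ⧸ I →ₗ[k] k := (I.restrictScalars k).liftQ g hg
    have h2 := congrArg (rc g') h
    rw [rc_tmul, rc_lTensor] at h2
    exact h2
  · intro h
    refine eq_of_rc fun g' => ?_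
    rw [rc_tmul, rc_lTensor]
    exact h (g' ∘ₗ (Ideal.Quotient.mkₐ k I).toLinearMap) fun a ha => by
      simp [Ideal.Quotient.eq_zero_iff_mem.2 ha]

end Fixed

end Groth.Agent.PsRefl34
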