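import Groth.Agent.PsRefl34.Principal
import Groth.Agent.FinGrp34.Fibre
import Groth.Agent.CAlg1.Regular
import Mathlib.LinearAlgebra.TensorProduct.Tower
import Mathlib.RingTheory.Ideal.GoingUp
import Mathlib.RingTheory.TensorProduct.Finite

/-!
The conormal Tor at a fixed point of a group generated by pseudo-reflections vanishes.
-/

universe u

open TensorProduct HopfRep

noncomputable section

namespace Groth.Agent.PsRefl34

open Groth.Agent.Comod33

variable {k : Type u} [Field k] {H : Type u} [CommRing H] [HopfAlgebra k H] [Module.Finite k H]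
variable {R : Type u} [CommRing R] [Algebra k R] [Comod k H R] [GLin.IsCoactAlg k H R]
variable (x : R →ₐ[k] k)

instance : (RingHom.ker x).IsPrime := RingHom.ker_isPrime x.toRingHom

local notation "Cv" => GLin.invariants k H R

variable (H) in
/-- the ideal below the point in the invariant ring -/
abbrev yI : Ideal Cv := RingHom.ker (x.comp (Cv).val)

/-- the action of a functional, linear over invariants -/
def dactC (g : H →ₗ[k] k) : R →ₗ[Cv] R where
  toFun := dact g
  map_add' := map_add _
  map_smul' c v := dact_invariant_mul g c.2 v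

variable (H) in
/-- the action on `R ⊗ y` -/
def alpha : (H →ₗ[k] k) →ₗ[k] Module.End k (R ⊗[Cv] ↥(yI H x)) where
  toFun g := ((dactC (R := R) g).rTensor ↥(yI H x)).restrictScalars k
  map_add' f g := LinearMap.ext fun t => by
    rw [LinearMap.add_apply]
    induction t with
    | zero => simp
    | add a b ha hb => simp only [map_add, ha, hb]; abel
    | tmul r a =>
      show dact (f + g) r ⊗ₜ[Cv] a = dact f r ⊗ₜ[Cv] a + dact g r ⊗ₜ[Cv] a
      rw [dact_add, LinearMap.add_apply, add_tmul]
  map_smul' c f := LinearMap.ext fun t => by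
    rw [RingHom.id_apply, LinearMap.smul_apply]
    induction t with
    | zero => simp
    | add a b ha hb => simp only [map_add, smul_add, ha, hb]
    | tmul r a =>
      show dact (c • f) r ⊗ₜ[Cv] a = c • (dact f r ⊗ₜ[Cv] a)
      rw [dact_smul, LinearMap.smul_apply, ← smul_tmul']

theorem alpha_tmul (g : H →ₗ[k] k) (r : R) (a : yI H x) :
    alpha H x g (r ⊗ₜ[Cv] a) = dact g r ⊗ₜ[Cv] a := rfl

theorem alpha_mul (f g : H →ₗ[k] k) :
    alpha H x (WithConv.toConv f * WithConv.toConv g).ofConv = alpha H x f * alpha H x g :=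
  LinearMap.ext fun t => by
    rw [Module.End.mul_apply]
    induction t with
    | zero => simp
    | add a b ha hb => simp only [map_add, ha, hb]
    | tmul r a => simp only [alpha_tmul, dact_dact]

theorem alpha_one : alpha H x (Coalgebra.counit (R := k) (A := H) : H →ₗ[k] k) = 1 :=
  LinearMap.ext fun t => by
    rw [Module.End.one_apply]
    induction t with
    | zero => simp
    | add a b ha hb => simp only [map_add, ha, hb]
    | tmul r a => simp only [alpha_tmul, dact_counit]

theorem alpha_smul {n : ℕ} {φ ψ : Fin n → (H →ₗ[k] k)} {g : H →ₗ[k] k}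
    (hd : ∀ b c : H, g (b * c) = ∑ i, φ i b * ψ i c) (r : R) (t : R ⊗[Cv] ↥(yI H x)) :
    alpha H x g (r • t) = ∑ i, dact (φ i) r • alpha H x (ψ i) t := by
  induction t with
  | zero => simp
  | add a b ha hb => simp only [smul_add, map_add, ha, hb, Finset.sum_add_distrib]
  | tmul s a =>
    simp only [smul_tmul', smul_eq_mul, alpha_tmul, dact_mul_of_decomp hd, sum_tmul]

variable (H) in
/-- multiplication `R ⊗ y → R` -/
def muY : R ⊗[Cv] ↥(yI H x) →ₗ[R] R :=
  (Algebra.TensorProduct.rid Cv R R).toLinearMap ∘ₗ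
    TensorProduct.AlgebraTensorModule.map (LinearMap.id (R := R) (M := R)) (yI H x).subtype

theorem muY_tmul (r : R) (a : yI H x) : muY H x (r ⊗ₜ[Cv] a) = ((a : Cv) : R) * r := by
  simp [muY, Algebra.smul_def]

theorem muY_alpha (g : H →ₗ[k] k) (t : R ⊗[Cv] ↥(yI H x)) :
    muY H x (alpha H x g t) = dact g (muY H x t) := by
  induction t with
  | zero => simp
  | add a b ha hb => simp only [map_add, ha, hb]
  | tmul r a => rw [alpha_tmul, muY_tmul, muY_tmul, dact_invariant_mul g (a : Cv).2]

variable {x}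

theorem mem_ker_smul_top_of_smul {M : Type u} [AddCommGroup M] [Module R M] {σ : R} (hσ : σ ∉ RingHom.ker x)
    {N : Submodule R M} {v : M} (hv : v ∈ N) (h : σ • v ∈ RingHom.ker x • N) : v ∈ RingHom.ker x • N := by
  have h1 : (σ - algebraMap k R (x σ)) • v ∈ RingHom.ker x • N := by
    refine Submodule.smul_mem_smul ?_ hv
    simp [RingHom.mem_ker]
  have h2 := Submodule.smul_mem _ (algebraMap k R (x σ)⁻¹) (sub_mem h h1)
  rw [← sub_smul, sub_sub_cancel, smul_smul, ← map_mul, inv_mul_cancel₀ (by simpa [RingHom.mem_ker] using hσ),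
    map_one, one_smul] at h2
  exact h2

theorem alpha_ker_smul (hx : GLin.IsFixedPt k H x) {N : Submodule R (R ⊗[Cv] ↥(yI H x))}
    (hN : ∀ g : H →ₗ[k] k, ∀ t ∈ N, alpha H x g t ∈ N) (g : H →ₗ[k] k) {t : R ⊗[Cv] ↥(yI H x)}
    (ht : t ∈ RingHom.ker x • N) : alpha H x g t ∈ RingHom.ker x • N := by
  obtain ⟨n, φ, ψ, -, -, hd⟩ := exists_decomp (supp_bot g)
  refine Submodule.smul_induction_on (p := fun t => alpha H x g t ∈ RingHom.ker x • N) ht
    (fun r hr v hv => ?_) (fun a b ha hb => ?_)
  · rw [alpha_smul x hd]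
    exact sum_mem fun i _ => Submodule.smul_mem_smul (dact_mem_ker hx _ hr) (hN _ _ hv)
  · rw [map_add]; exact add_mem ha hb

/-- a pseudo-reflection fixes `ker (R ⊗ y → R)` modulo the maximal ideal of the point -/
theorem refl_fixes [IsNoetherianRing R] (hreg : IsRegularLocalRing (Localization.AtPrime (RingHom.ker x)))
    (hx : GLin.IsFixedPt k H x) {I : Ideal H} (hI : GLin.IsPseudoReflAt k H R x I)
    (hlr : ∀ [I.IsHopfIdeal k], IsLinearlyReductive k (H ⧸ I)) (g : H →ₗ[k] k) (hg : Supp I g)
    {t : R ⊗[Cv] ↥(yI H x)} (ht : t ∈ LinearMap.ker (muY H x)) :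
    alpha H x g t - g 1 • t ∈ RingHom.ker x • LinearMap.ker (muY H x) := by
  obtain ⟨c, hcm, hc2, σ, hσ, hdvd⟩ := exists_principal hx hI hlr
  have := CAlg1.isDomain_regular (Localization.AtPrime (RingHom.ker x))
  let ι := algebraMap R (Localization.AtPrime (RingHom.ker x))
  have hc0 : ι c ≠ 0 := by
    intro h
    obtain ⟨⟨s, hs⟩, hsc⟩ := (IsLocalization.map_eq_zero_iff (RingHom.ker x).primeCompl _ c).1 h
    replace hsc : s * c = 0 := hsc
    apply hc2
    have h1 : (s - algebraMap k R (x s)) * c ∈ RingHom.ker x ^ 2 := by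
      rw [pow_two]
      exact Ideal.mul_mem_mul (by simp [RingHom.mem_ker]) hcm
    rw [sub_mul, hsc, zero_sub, Ideal.neg_mem_iff] at h1
    have h2 := Ideal.mul_mem_left _ (algebraMap k R (x s)⁻¹) h1
    rw [← mul_assoc, ← map_mul, inv_mul_cancel₀ (by simpa [RingHom.mem_ker] using hs), map_one, one_mul] at h2
    exact h2
  -- one element outside the maximal ideal kills the annihilator of `c`
  obtain ⟨τ, hτ, hτc⟩ : ∃ τ ∉ RingHom.ker x, ∀ q : R, c * q = 0 → τ * q = 0 := by
    obtain ⟨s, hs⟩ := IsNoetherian.noetherian (LinearMap.ker (LinearMap.mulLeft R c))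
    have hloc : ∀ q ∈ s, ∃ τ : R, τ ∉ RingHom.ker x ∧ τ * q = 0 := by
      intro q hq
      have h1 : c * q = 0 := by
        have : q ∈ LinearMap.ker (LinearMap.mulLeft R c) := hs ▸ Submodule.subset_span hq
        exact this
      have h2 : ι c * ι q = 0 := by rw [← map_mul, h1, map_zero]
      obtain ⟨⟨τ, hτ⟩, h⟩ := (IsLocalization.map_eq_zero_iff (RingHom.ker x).primeCompl _ q).1
        ((mul_eq_zero.1 h2).resolve_left hc0)
      exact ⟨τ, hτ, h⟩
    choose τ hτ hτq using hloc
    refine ⟨∏ q ∈ s.attach, τ q q.2, prod_mem (S := (RingHom.ker x).primeCompl) fun q _ => hτ q q.2, fun q hq => ?_⟩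
    have hq' : q ∈ Submodule.span R (s : Set R) := hs.symm ▸ hq
    clear hq
    classical
    induction hq' using Submodule.span_induction with
    | mem q hq =>
      rw [← Finset.prod_erase_mul _ _ (Finset.mem_attach _ ⟨q, hq⟩), mul_assoc, hτq, mul_zero]
    | zero => simp
    | add a b _ _ ha hb => rw [mul_add, ha, hb, add_zero]
    | smul r a _ ha => rw [smul_eq_mul, mul_left_comm, ha, mul_zero]
  choose q hq using hdvd g hg
  have huniq : ∀ p p', c * p = c * p' → τ * p = τ * p' := fun p p' h => by
    rw [← sub_eq_zero, ← mul_sub]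
    exact hτc _ (by rw [mul_sub, h, sub_self])
  let eR : R →ₗ[Cv] R :=
    { toFun := fun v => τ * q v
      map_add' := fun a b => by
        rw [← mul_add]
        refine huniq _ _ ?_
        rw [mul_add, ← hq, ← hq, ← hq, map_add, smul_add]
        ring
      map_smul' := fun d v => by
        simp only [RingHom.id_apply]
        show τ * q ((d : R) * v) = (d : R) * (τ * q v)
        rw [mul_left_comm (d : R)]
        refine huniq _ _ ?_
        rw [mul_left_comm c, ← hq, ← hq, dact_invariant_mul g d.2, ← mul_smul_comm]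
        ring }
  let β := eR.rTensor ↥(yI H x)
  have hβ : ∀ t, c • β t = (τ * σ) • (alpha H x g t - g 1 • t) := by
    intro t
    induction t with
    | zero => simp
    | add a b ha hb => simp only [map_add, smul_add, smul_sub, ha, hb]; abel
    | tmul r a =>
      show c • ((τ * q r) ⊗ₜ[Cv] a) = _
      rw [alpha_tmul, smul_tmul', smul_tmul', ← sub_tmul, smul_tmul', smul_eq_mul, smul_eq_mul, mul_assoc τ, hq,
        mul_left_comm]
  have hμβ : muY H x (β t) = 0 := by
    have : ∀ t, muY H x (β t) = eR (muY H x t) := by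
      intro t
      induction t with
      | zero => simp
      | add a b ha hb => simp only [map_add, ha, hb]
      | tmul r a =>
        show muY H x (eR r ⊗ₜ[Cv] a) = _
        rw [muY_tmul, muY_tmul]
        exact (map_smul eR (a : Cv) r).symm
    rw [this, LinearMap.mem_ker.1 ht, map_zero]
  have hσn : alpha H x g t - g 1 • t ∈ LinearMap.ker (muY H x) := by
    rw [LinearMap.mem_ker, map_sub, muY_alpha, LinearMap.map_smul_of_tower, LinearMap.mem_ker.1 ht,
      map_zero, smul_zero, sub_zero]
  refine mem_ker_smul_top_of_smul (σ := τ * σ) (fun h => ?_) hσn ?_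
  · rcases (RingHom.ker_isPrime x.toRingHom).mem_or_mem h with h | h
    exacts [hτ h, hσ h]
  · rw [← hβ]
    exact Submodule.smul_mem_smul hcm hμβ

/-- `ker (R ⊗ y → R)` is killed by a function not vanishing at the point -/
theorem exists_smul_ker_eq_zero [Algebra.FiniteType k R]
    (hreg : IsRegularLocalRing (Localization.AtPrime (RingHom.ker x)))
    (hG : IsLinearlyReductive k H) (hsub : ∀ (I : Ideal H) [I.IsHopfIdeal k], IsLinearlyReductive k (H ⧸ I))
    (hx : GLin.IsFixedPt k H x) (hgen : GLin.IsGenByPseudoReflAt k H R x) :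
    ∃ σ ∉ RingHom.ker x, ∀ t ∈ LinearMap.ker (muY H x), σ • t = 0 := by
  have : IsNoetherianRing R := Algebra.FiniteType.isNoetherianRing k R
  have : IsNoetherianRing Cv := FinGrp34.isNoetherianRing_invariants_of_finite R
  set N := LinearMap.ker (muY H x)
  have hN : ∀ g : H →ₗ[k] k, ∀ t ∈ N, alpha H x g t ∈ N := fun g t ht => by
    rw [LinearMap.mem_ker, muY_alpha, LinearMap.mem_ker.1 ht, map_zero]
  set U : Submodule k (R ⊗[Cv] ↥(yI H x)) := (RingHom.ker x • N).restrictScalars k
  let αq : (H →ₗ[k] k) →ₗ[k] Module.End k ((R ⊗[Cv] ↥(yI H x)) ⧸ U) :=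
    { toFun := fun g => U.mapQ U (alpha H x g) fun t ht => alpha_ker_smul hx hN g ht
      map_add' := fun f g => by ext t; simp
      map_smul' := fun c f => by ext t; simp }
  have hmul : ∀ f g, αq (WithConv.toConv f * WithConv.toConv g).ofConv = αq f * αq g := fun f g => by
    ext t; simp [αq, alpha_mul]
  have hone : αq (Coalgebra.counit (R := k) (A := H) : H →ₗ[k] k) = 1 := by
    ext t; simp [αq, alpha_one]
  have hfix : ∀ t ∈ N, ∀ g : H →ₗ[k] k, alpha H x g t - g 1 • t ∈ RingHom.ker x • N := by
    intro t ht g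
    have hle : stab αq (U.mkQ t) ≤ GLin.genIdealAt k H R x := by
      refine le_sSup ⟨isHopfIdeal_stab αq hmul hone _, fun I hI => stab_le αq fun g' hg' => ?_⟩
      simp only [αq, LinearMap.coe_mk, AddHom.coe_mk, Submodule.mkQ_apply, Submodule.mapQ_apply]
      rw [← Submodule.Quotient.mk_smul, Submodule.Quotient.eq]
      have := hI.1
      exact refl_fixes hreg hx hI (hsub I) g' hg' ht
    rw [show GLin.genIdealAt k H R x = ⊥ from hgen] at hle
    have h := fixed_of_supp αq (g := g) (w := U.mkQ t) fun a ha => by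
      rw [Ideal.mem_bot.1 (hle ha), map_zero]
    simp only [αq, LinearMap.coe_mk, AddHom.coe_mk, Submodule.mkQ_apply, Submodule.mapQ_apply] at h
    rw [← Submodule.Quotient.mk_smul, Submodule.Quotient.eq] at h
    exact h
  obtain ⟨l, hl1, hll, -⟩ := exists_twoSided hG
  have hinv : ∀ r : R, dact l r ∈ Cv := fun r => by
    refine (GLin.mem_invariants_iff k H R _).2 (eq_of_rc fun f => ?_)
    rw [rc_tmul, ← dact_apply, dact_dact, hll, dact_smul, LinearMap.smul_apply]
  have hPl : ∀ t ∈ N, alpha H x l t = 0 := by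
    intro t ht
    have h1 : ∀ s, ∃ a : yI H x, alpha H x l s = (1 : R) ⊗ₜ[Cv] a := by
      intro s
      induction s with
      | zero => exact ⟨0, by simp⟩
      | add a b ha hb =>
        obtain ⟨a', ha⟩ := ha
        obtain ⟨b', hb⟩ := hb
        exact ⟨a' + b', by rw [map_add, ha, hb, tmul_add]⟩
      | tmul r a =>
        refine ⟨(⟨dact l r, hinv r⟩ : Cv) • a, ?_⟩
        rw [alpha_tmul, ← smul_tmul]
        congr 1
        exact (mul_one _).symm
    obtain ⟨a, ha⟩ := h1 t
    have h2 := muY_alpha x l t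
    rw [ha, muY_tmul, mul_one, LinearMap.mem_ker.1 ht, map_zero] at h2
    rw [ha, show a = 0 from Subtype.ext (Subtype.ext h2), tmul_zero]
  have hle : N ≤ RingHom.ker x • N := fun t ht => by
    have h := hfix t ht l
    rw [hPl t ht, hl1, one_smul, zero_sub, Submodule.neg_mem_iff] at h
    exact h
  obtain ⟨σ, hσ, hkill⟩ :=
    Submodule.exists_sub_one_mem_and_smul_eq_zero_of_fg_of_le_smul _ N (IsNoetherian.noetherian N) hle
  refine ⟨σ, fun h => ?_, hkill⟩
  have h1 : (1 : R) ∈ RingHom.ker x := by simpa using sub_mem h hσ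
  rw [RingHom.mem_ker, map_one] at h1
  exact one_ne_zero h1

end Groth.Agent.PsRefl34
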